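import Groth.Prelude.Def_Coh
import Groth.Prelude.Def_ClSub2
import Groth.Agent.Lib.Curves.LES
import Groth.Agent.Lib.Curves.GlobalSections
import Mathlib.AlgebraicGeometry.Morphisms.Proper
import Mathlib.FieldTheory.IsAlgClosed.Basic
import Mathlib.Topology.Sheaves.SheafCondition.UniqueGluing

/-!
Connectedness and idempotent global functions; global functions of a reduced connected scheme that is
universally closed over an algebraically closed field.
-/

set_option autoImplicit false
universe u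

open CategoryTheory CategoryTheory.Limits AlgebraicGeometry Opposite TopologicalSpace

namespace Groth.Agent.H90.ConnFun

/-- In a reduced ring with no idempotents other than `0` and `1`, an element killed by a split
squarefree polynomial over a field is a constant. -/
theorem exists_eq_of_prod_eq_zero {k R : Type*} [Field k] [CommRing R] [Nontrivial R] (φ : k →+* R)
    (hid : ∀ e : R, IsIdempotentElem e → e = 0 ∨ e = 1) (a : R) (s : Finset k)
    (h : ∏ c ∈ s, (a - φ c) = 0) : ∃ c, a = φ c := by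
  classical
  induction s using Finset.induction_on with
  | empty => exact absurd h (by simp)
  | insert c₀ s hc₀ ih =>
    rw [Finset.prod_insert hc₀] at h
    have hcop : IsCoprime (a - φ c₀) (∏ c ∈ s, (a - φ c)) := by
      refine IsCoprime.prod_right fun c hc => ?_
      have hne : c - c₀ ≠ 0 := sub_ne_zero.2 fun e => hc₀ (e ▸ hc)
      refine ⟨φ (c - c₀)⁻¹, -φ (c - c₀)⁻¹, ?_⟩
      have : φ (c - c₀)⁻¹ * φ (c - c₀) = 1 := by rw [← map_mul, inv_mul_cancel₀ hne, map_one]
      linear_combination this + φ (c - c₀)⁻¹ * (map_sub φ c c₀).symm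
    obtain ⟨u, v, huv⟩ := hcop
    have hidem : IsIdempotentElem (u * (a - φ c₀)) := by
      show _ * _ = _
      linear_combination u * (a - φ c₀) * huv - u * v * h
    rcases hid _ hidem with h0 | h1
    · refine ⟨c₀, sub_eq_zero.1 ?_⟩
      rw [h0, zero_add] at huv
      calc a - φ c₀ = (a - φ c₀) * (v * ∏ c ∈ s, (a - φ c)) := by rw [huv, mul_one]
        _ = v * ((a - φ c₀) * ∏ c ∈ s, (a - φ c)) := by ring
        _ = 0 := by rw [h, mul_zero]
    · refine ih ?_
      calc ∏ c ∈ s, (a - φ c) = (u * (a - φ c₀)) * ∏ c ∈ s, (a - φ c) := by rw [h1, one_mul]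
        _ = u * ((a - φ c₀) * ∏ c ∈ s, (a - φ c)) := by ring
        _ = 0 := by rw [h, mul_zero]

variable {Z : Scheme.{u}}

theorem idempotent_eq_zero_or_one [PreconnectedSpace Z] (e : Γ(Z, ⊤)) (he : IsIdempotentElem e) :
    e = 0 ∨ e = 1 := by
  have hcover : (Set.univ : Set Z) ⊆ Z.basicOpen e ∪ Z.basicOpen (1 - e) := by
    intro x _
    simp only [Set.mem_union, SetLike.mem_coe, Scheme.mem_basicOpen_top]
    rw [map_sub, map_one]
    exact IsLocalRing.isUnit_or_isUnit_of_isUnit_add (by rw [add_sub_cancel]; exact isUnit_one)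
  have key : ∀ f : Γ(Z, ⊤), Z.basicOpen f = ⊤ → IsUnit f := fun f hf => by
    apply Z.toRingedSpace.isUnit_of_isUnit_germ
    intro x hx
    exact (Scheme.mem_basicOpen_top Z f x).1 (by rw [hf]; trivial)
  have hdisj : Z.basicOpen e ⊓ Z.basicOpen (1 - e) = ⊥ := by
    rw [← Scheme.basicOpen_mul, mul_sub, mul_one, he.eq, sub_self, Scheme.basicOpen_zero]
  by_cases h1 : (Z.basicOpen (1 - e) : Set Z).Nonempty
  · left
    by_cases h2 : (Z.basicOpen e : Set Z).Nonempty
    · obtain ⟨x, -, hx⟩ := PreconnectedSpace.isPreconnected_univ (Z.basicOpen e : Set Z)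
        (Z.basicOpen (1 - e) : Set Z) (Z.basicOpen e).isOpen (Z.basicOpen (1 - e)).isOpen hcover
        (by simpa using h2) (by simpa using h1)
      have hx' : x ∈ (Z.basicOpen e ⊓ Z.basicOpen (1 - e) : Z.Opens) := hx
      rw [hdisj] at hx'
      exact hx'.elim
    · have hu : IsUnit (1 - e) := key _ (top_le_iff.1 fun x _ => by
        rcases hcover (Set.mem_univ x) with h | h
        · exact absurd ⟨x, h⟩ h2
        · exact h)
      exact (hu.mul_right_eq_zero).1 (by rw [sub_mul, one_mul, he.eq, sub_self])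
  · right
    have hu : IsUnit e := key _ (top_le_iff.1 fun x _ => by
      rcases hcover (Set.mem_univ x) with h | h
      · exact h
      · exact absurd ⟨x, h⟩ h1)
    exact (hu.mul_eq_left).1 he.eq

theorem preconnectedSpace_of_idempotents
    (h : ∀ e : Γ(Z, ⊤), IsIdempotentElem e → e = 0 ∨ e = 1) : PreconnectedSpace Z := by
  refine ⟨fun u v hu hv hcover ⟨x, _, hx⟩ ⟨y, _, hy⟩ => ?_⟩
  by_contra hne
  rw [Set.not_nonempty_iff_eq_empty, Set.univ_inter] at hne
  let U : ULift.{u} Bool → Z.Opens := fun b => if b.down then ⟨u, hu⟩ else ⟨v, hv⟩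
  let sf : ∀ i, Γ(Z, U i) := fun b => if b.down then 1 else 0
  have hUV : (⟨u, hu⟩ : Z.Opens) ⊓ ⟨v, hv⟩ = ⊥ := SetLike.coe_injective (by simpa using hne)
  have compat : TopCat.Presheaf.IsCompatible Z.sheaf.1 U sf := by
    intro i j
    have : i ≠ j → Subsingleton Γ(Z, U i ⊓ U j) := by
      intro hij
      have : U i ⊓ U j = ⊥ := by
        obtain ⟨i⟩ := i; obtain ⟨j⟩ := j
        cases i <;> cases j <;> simp_all [U, inf_comm]
      rw [this]; infer_instance
    by_cases hij : i = j
    · subst hij; rfl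
    · exact @Subsingleton.elim _ (this hij) _ _
  obtain ⟨e, he, huniq⟩ := Z.sheaf.existsUnique_gluing' U ⊤ (fun i => homOfLE le_top)
    (fun z _ => by
      rcases hcover (Set.mem_univ z) with hz | hz
      · exact Opens.mem_iSup.2 ⟨⟨true⟩, hz⟩
      · exact Opens.mem_iSup.2 ⟨⟨false⟩, hz⟩) sf compat
  obtain ⟨e, rfl⟩ : ∃ e' : Γ(Z, ⊤), e' = e := ⟨e, rfl⟩
  replace he : ∀ i, (Z.presheaf.map (homOfLE (le_top : U i ≤ ⊤)).op).hom e = sf i := he
  have hidem : IsIdempotentElem e := huniq (e * e) fun i => by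
    refine ((Z.presheaf.map (homOfLE (le_top : U i ≤ ⊤)).op).hom.map_mul e e).trans ?_
    rw [he i]
    obtain ⟨i⟩ := i
    cases i <;> simp [sf]
  have hu' : Nontrivial Γ(Z, U ⟨true⟩) := by
    haveI : Nonempty (U ⟨true⟩ : Z.Opens) := ⟨⟨x, hx⟩⟩
    infer_instance
  have hv' : Nontrivial Γ(Z, U ⟨false⟩) := by
    haveI : Nonempty (U ⟨false⟩ : Z.Opens) := ⟨⟨y, hy⟩⟩
    infer_instance
  rcases h e hidem with h0 | h1
  · have := he ⟨true⟩
    rw [h0, map_zero] at this
    exact zero_ne_one this
  · have := he ⟨false⟩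
    rw [h1, map_one] at this
    exact one_ne_zero this

/-- A reduced connected scheme universally closed over an algebraically closed field has only
constant global functions. -/
theorem appTop_surjective (k : Type u) [Field k] [IsAlgClosed k] [IsReduced Z] [ConnectedSpace Z]
    (f : Z ⟶ Spec (CommRingCat.of k)) [UniversallyClosed f] :
    Function.Surjective ((Scheme.ΓSpecIso (CommRingCat.of k)).inv ≫ f.appTop).hom := by
  set F := ((Scheme.ΓSpecIso (CommRingCat.of k)).inv ≫ f.appTop).hom with hF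
  have hint : F.IsIntegral :=
    RingHom.IsIntegral.trans _ _
      (RingHom.isIntegral_of_surjective _
        (Scheme.ΓSpecIso (CommRingCat.of k)).commRingCatIsoToRingEquiv.symm.surjective)
      (isIntegral_appTop_of_universallyClosed f)
  haveI : Nontrivial Γ(Z, ⊤) := by
    haveI : Nonempty (⊤ : Z.Opens) := ⟨⟨Classical.arbitrary Z, trivial⟩⟩
    infer_instance
  intro a
  obtain ⟨p, hmon, hp⟩ := hint a
  classical
  rw [(IsAlgClosed.splits p).eq_prod_roots_of_monic hmon, Polynomial.eval₂_multiset_prod,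
    Multiset.map_map] at hp
  simp only [Function.comp_def, Polynomial.eval₂_sub, Polynomial.eval₂_X, Polynomial.eval₂_C] at hp
  have hnil : IsNilpotent (∏ c ∈ p.roots.toFinset, (a - F c)) := by
    refine ⟨p.roots.card, ?_⟩
    rw [← Finset.prod_pow]
    apply eq_zero_of_zero_dvd
    conv_lhs => rw [← hp, Finset.prod_multiset_map_count]
    exact Finset.prod_dvd_prod_of_dvd _ _ fun c _ =>
      pow_dvd_pow _ (Multiset.count_le_card _ _)
  obtain ⟨c, hc⟩ := exists_eq_of_prod_eq_zero F (fun e he => idempotent_eq_zero_or_one e he) a _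
    hnil.eq_zero
  exact ⟨c, hc.symm⟩

/-! ### `H⁰` of `O_X ⟶ O_X / D` -/

open Groth.Agent.Lib.Curves.LES Groth.Agent.Lib.Curves.GlobalSections

variable {A : Type u} [CommRing A] {X : Scheme.{u}} [X.Over (Spec (CommRingCat.of A))]

theorem h0Equiv_mapK {M N : X.Modules} (φ : M ⟶ N) (z : Coh.HH X M 0) :
    h0Equiv N (mapK A φ 0 z) = φ.app ⊤ (h0Equiv M z) := by
  change Sheaf.H.equiv₀ (Coh.toAb N) _ (Sheaf.H.map (toAbMap φ) 0 z) = _
  rw [← Sheaf.H.equiv₀_naturality]
  rfl

theorem mapK_zero_surjective_iff {M N : X.Modules} (φ : M ⟶ N) :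
    Function.Surjective (mapK A φ 0) ↔ Function.Surjective (φ.app ⊤) := by
  constructor
  · intro h n
    obtain ⟨z, hz⟩ := h ((h0Equiv N).symm n)
    refine ⟨h0Equiv M z, ?_⟩
    refine (h0Equiv_mapK (A := A) φ z).symm.trans ?_
    rw [hz]
    exact (h0Equiv N).apply_symm_apply n
  · intro h w
    obtain ⟨m, hm⟩ := h (h0Equiv N w)
    refine ⟨(h0Equiv M).symm m, (h0Equiv N).injective ?_⟩
    refine (h0Equiv_mapK φ _).trans ?_
    exact (congrArg _ ((h0Equiv M).apply_symm_apply m)).trans hm

end Groth.Agent.H90.ConnFun
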