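import Groth.Agent.Lib.TensorMod.Integral
import Groth.Prelude.Def_ClSub2

/-!
Isomorphisms between tensor powers; nonzero sections of powers on integral schemes.
-/

set_option autoImplicit false
universe u

open CategoryTheory CategoryTheory.Limits AlgebraicGeometry
open Groth.Agent.Lib.TensorMod.Basic Groth.Agent.Lib.TensorMod.Invertible
  Groth.Agent.Lib.TensorMod.Integral

namespace Groth.Agent.H90.PowIso

variable {X : Scheme.{u}}

/-- `L^a ⊗ L^b ≅ L^(a+b)`. -/
noncomputable def powAdd (L : X.Modules) (a : ℕ) :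
    ∀ b : ℕ, CohB1.tensorMod (CohB1.tensorPow L a) (CohB1.tensorPow L b) ≅ CohB1.tensorPow L (a + b)
  | 0 => rightUnit _
  | b + 1 => (assoc _ _ _).symm ≪≫ tensorIso (powAdd L a b) (Iso.refl L)

/-- `(L^a)^b ≅ L^(a*b)`. -/
noncomputable def powMul (L : X.Modules) (a : ℕ) :
    ∀ b : ℕ, CohB1.tensorPow (CohB1.tensorPow L a) b ≅ CohB1.tensorPow L (a * b)
  | 0 => Iso.refl _
  | b + 1 => tensorIso (powMul L a b) (Iso.refl _) ≪≫ powAdd L (a * b) a

/-- `L^n ⊗ M^n ≅ O` when `L ⊗ M ≅ O`. -/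
noncomputable def powInv {L M : X.Modules} (e : CohB1.tensorMod L M ≅ Coh.structureModule X) :
    ∀ n : ℕ, CohB1.tensorMod (CohB1.tensorPow L n) (CohB1.tensorPow M n) ≅ Coh.structureModule X
  | 0 => leftUnit _
  | n + 1 =>
    assoc _ _ _ ≪≫
      tensorIso (Iso.refl (CohB1.tensorPow L n))
        ((assoc L (CohB1.tensorPow M n) M).symm ≪≫
          tensorIso (comm L (CohB1.tensorPow M n)) (Iso.refl M) ≪≫
          assoc (CohB1.tensorPow M n) L M ≪≫ tensorIso (Iso.refl _) e ≪≫ rightUnit _) ≪≫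
      powInv e n

theorem id_structureModule_ne_zero [Nonempty X] : 𝟙 (Coh.structureModule X) ≠ 0 := by
  intro h
  haveI : Nonempty (⊤ : X.Opens) := ⟨⟨Classical.arbitrary X, trivial⟩⟩
  exact one_ne_zero (α := Γ(X, ⊤))
    (congrArg (fun φ : Coh.structureModule X ⟶ Coh.structureModule X => φ.app ⊤ (1 : Γ(X, ⊤))) h :)

theorem tmap_id_ne_zero {N A B : X.Modules} (hN : PicF.IsInvertible N) {f : A ⟶ B} (hf : f ≠ 0) :
    tmap (𝟙 N) f ≠ 0 := by
  intro h
  refine hf (eq_zero_of_tmap_eq_zero hN ?_)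
  have hc := comm_natural (𝟙 N) f
  rw [h, zero_comp] at hc
  exact (cancel_epi (comm N A).hom).1 (by rw [← hc, comp_zero])

theorem exists_section_pow [IsIntegral X] {N : X.Modules} (hN : PicF.IsInvertible N)
    {t : Coh.structureModule X ⟶ N} (ht : t ≠ 0) :
    ∀ n : ℕ, ∃ s : Coh.structureModule X ⟶ CohB1.tensorPow N n, s ≠ 0
  | 0 => ⟨𝟙 _, id_structureModule_ne_zero⟩
  | n + 1 => by
    obtain ⟨s, hs⟩ := exists_section_pow hN ht n
    have hP := isInvertible_tensorPow hN n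
    have hO := PicLoc.isInvertible_structureModule X
    refine ⟨s ≫ ((rightUnit _).inv ≫ tmap (𝟙 (CohB1.tensorPow N n)) t),
      comp_ne_zero hO hP (isInvertible_tensorMod hP hN) hs fun h => ?_⟩
    exact tmap_id_ne_zero hP ht ((cancel_epi (rightUnit _).inv).1 (h.trans comp_zero.symm))

end Groth.Agent.H90.PowIso
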