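import Groth.Prelude.Def_W4c3severiratdpLat
import Mathlib.Algebra.Order.Chebyshev
import Mathlib.Data.List.OfFn
import Mathlib.Tactic.Linarith
import Mathlib.Tactic.IntervalCases
import Mathlib.Tactic.Ring
import Mathlib.Tactic.LinearCombination
import Mathlib.Tactic.Abel

/-!
The lattice of the plane blown up in `δ` points: reflections in simple roots, descent to dominant
vectors, and enumeration of the classes with given square and canonical degree.
-/

set_option autoImplicit false

namespace Groth.Agent.H90.DPLattice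

open W4c3severiratdp

variable {δ : ℕ}

theorem form_comm (v w : DP δ) : form v w = form w v := by
  simp only [form]
  rw [mul_comm (v 0), Finset.sum_congr rfl fun i _ => mul_comm (v i.succ) (w i.succ)]

theorem form_add_left (u v w : DP δ) : form (u + v) w = form u w + form v w := by
  simp only [form, Pi.add_apply, add_mul, Finset.sum_add_distrib]; ring

theorem form_smul_left (c : ℤ) (v w : DP δ) : form (c • v) w = c * form v w := by
  simp only [form, Pi.smul_apply, smul_eq_mul, mul_assoc, ← Finset.mul_sum]; ring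

theorem form_add_right (u v w : DP δ) : form u (v + w) = form u v + form u w := by
  rw [form_comm, form_add_left, form_comm v, form_comm w]

theorem form_smul_right (c : ℤ) (v w : DP δ) : form v (c • w) = c * form v w := by
  rw [form_comm, form_smul_left, form_comm w]

/-- The reflection in a vector of square `-2`. -/
def refl (α : DP δ) (h : form α α = -2) : DP δ ≃ₗ[ℤ] DP δ where
  toFun x := x + form x α • α
  invFun x := x + form x α • α
  map_add' x y := by
    simp only [form_add_left, add_smul]; abel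
  map_smul' c x := by
    simp only [form_smul_left, smul_add, mul_smul, RingHom.id_apply]
  left_inv x := by
    simp only [form_add_left, form_smul_left, h]
    rw [add_assoc, ← add_smul]
    have : form x α + (form x α + form x α * -2) = 0 := by ring
    rw [this, zero_smul, add_zero]
  right_inv x := by
    simp only [form_add_left, form_smul_left, h]
    rw [add_assoc, ← add_smul]
    have : form x α + (form x α + form x α * -2) = 0 := by ring
    rw [this, zero_smul, add_zero]

theorem refl_apply (α : DP δ) (h : form α α = -2) (x : DP δ) :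
    refl α h x = x + form x α • α := rfl

theorem isWeyl_refl (α : DP δ) (h : form α α = -2) (hK : form (canon δ) α = 0) :
    IsWeyl (refl α h) := by
  refine ⟨fun v w => ?_, ?_⟩
  · simp only [refl_apply, form_add_left, form_add_right, form_smul_left, form_smul_right,
      form_comm α w, h]
    ring
  · simp [refl_apply, hK]

theorem isWeyl_one : IsWeyl (LinearEquiv.refl ℤ (DP δ)) := ⟨fun _ _ => rfl, rfl⟩

theorem isWeyl_trans {g h : DP δ ≃ₗ[ℤ] DP δ} (hg : IsWeyl g) (hh : IsWeyl h) :
    IsWeyl (g.trans h) :=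
  ⟨fun v w => by simp [hh.1, hg.1], by simp [hg.2, hh.2]⟩

theorem isWeyl_symm {g : DP δ ≃ₗ[ℤ] DP δ} (hg : IsWeyl g) : IsWeyl g.symm :=
  ⟨fun v w => by conv_rhs => rw [← g.apply_symm_apply v, ← g.apply_symm_apply w, hg.1],
    by rw [LinearEquiv.symm_apply_eq, hg.2]⟩

theorem isWeyl_form_canon {g : DP δ ≃ₗ[ℤ] DP δ} (hg : IsWeyl g) (v : DP δ) :
    form (canon δ) (g v) = form (canon δ) v := by
  conv_lhs => rw [← hg.2]
  exact hg.1 _ _

theorem isConic_map {g : DP δ ≃ₗ[ℤ] DP δ} (hg : IsWeyl g) {v : DP δ} (hv : IsConic v) :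
    IsConic (g v) := ⟨by rw [hg.1]; exact hv.1, by rw [isWeyl_form_canon hg]; exact hv.2⟩

theorem isExc_map {g : DP δ ≃ₗ[ℤ] DP δ} (hg : IsWeyl g) {v : DP δ} (hv : IsExc v) :
    IsExc (g v) := ⟨by rw [hg.1]; exact hv.1, by rw [isWeyl_form_canon hg]; exact hv.2⟩

/-- `g` lies in the stabilizer of every vector of the list `fix`. -/
def Fixes (fix : List (DP δ)) (g : DP δ ≃ₗ[ℤ] DP δ) : Prop := ∀ u ∈ fix, g u = u

theorem form_fixed {fix : List (DP δ)} {g : DP δ ≃ₗ[ℤ] DP δ} (hg : IsWeyl g) (hf : Fixes fix g)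
    {u : DP δ} (hu : u ∈ fix) (v : DP δ) : form (g v) u = form v u := by
  conv_lhs => rw [← hf u hu]
  exact hg.1 _ _

/-- Descent to a dominant vector: the linear function `form · ρ` drops under each reflection in a
root on which the vector is negative, and it is bounded below on the orbit. -/
theorem exists_dominant (fix R : List (DP δ)) (ρ : DP δ) (c₁ c₂ B : ℤ)
    (hR : ∀ α ∈ R, form α α = -2 ∧ form (canon δ) α = 0 ∧ (∀ u ∈ fix, form u α = 0) ∧
      0 < form α ρ)
    (hB : ∀ v : DP δ, form v v = c₁ → form (canon δ) v = c₂ → B ≤ form v ρ)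
    (v : DP δ) (h₁ : form v v = c₁) (h₂ : form (canon δ) v = c₂) :
    ∃ g : DP δ ≃ₗ[ℤ] DP δ, IsWeyl g ∧ Fixes fix g ∧ ∀ α ∈ R, 0 ≤ form (g v) α := by
  generalize hn : (form v ρ - B).toNat = n
  induction n using Nat.strong_induction_on generalizing v with
  | _ n ih =>
    by_cases h : ∀ α ∈ R, 0 ≤ form v α
    · exact ⟨LinearEquiv.refl ℤ _, isWeyl_one, fun _ _ => rfl, h⟩
    · simp only [not_forall, not_le] at h
      obtain ⟨α, hα, hneg⟩ := h
      obtain ⟨ha, hK, hfix, hpos⟩ := hR α hα
      have hW := isWeyl_refl α ha hK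
      have e₁ : form (refl α ha v) (refl α ha v) = c₁ := by rw [hW.1]; exact h₁
      have e₂ : form (canon δ) (refl α ha v) = c₂ := by rw [isWeyl_form_canon hW]; exact h₂
      have hlt : form (refl α ha v) ρ < form v ρ := by
        rw [refl_apply, form_add_left, form_smul_left]
        nlinarith
      have hb := hB _ e₁ e₂
      obtain ⟨g, hg, hgf, hdom⟩ := ih ((form (refl α ha v) ρ - B).toNat)
        (by omega) (refl α ha v) e₁ e₂ rfl
      refine ⟨(refl α ha).trans g, isWeyl_trans hW hg, fun u hu => ?_, ?_⟩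
      · rw [LinearEquiv.trans_apply, refl_apply, hfix u hu, zero_smul, add_zero, hgf u hu]
      · simpa using hdom

/-! ### Computing with lists -/

/-- The coordinates of a vector, as a list. -/
def toL (v : DP δ) : List ℤ := List.ofFn v

theorem toL_injective : Function.Injective (toL (δ := δ)) := List.ofFn_injective

theorem length_toL (v : DP δ) : (toL v).length = δ + 1 := by simp [toL]

theorem toL_inj {v w : DP δ} : toL v = toL w ↔ v = w := toL_injective.eq_iff

/-- The intersection form on lists. -/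
def dotL : List ℤ → List ℤ → ℤ
  | a :: l, a' :: l' => a * a' - (List.zipWith (· * ·) l l').sum
  | _, _ => 0

theorem zipWith_ofFn {n : ℕ} (f g : Fin n → ℤ) :
    List.zipWith (· * ·) (List.ofFn f) (List.ofFn g) = List.ofFn fun i => f i * g i := by
  induction n with
  | zero => simp
  | succ n ih => simp [List.ofFn_succ, ih]

theorem form_eq_dotL (v w : DP δ) : form v w = dotL (toL v) (toL w) := by
  simp [toL, dotL, form, List.ofFn_succ, zipWith_ofFn, List.sum_ofFn]

/-- All length `n` lists with entries in `vals`, of sum `S` and sum of squares `Q`. -/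
def sols (vals : List ℤ) : ℕ → ℤ → ℤ → List (List ℤ)
  | 0, S, Q => if S = 0 ∧ Q = 0 then [[]] else []
  | n + 1, S, Q => vals.flatMap fun b =>
      if b * b ≤ Q ∧ (S - b) * (S - b) ≤ (n : ℤ) * (Q - b * b) then
        (sols vals n (S - b) (Q - b * b)).map (b :: ·) else []

theorem sum_sq_le (l : List ℤ) : l.sum * l.sum ≤ (l.length : ℤ) * (l.map fun b => b * b).sum := by
  induction l with
  | nil => simp
  | cons b l ih =>
    have hq : 0 ≤ (l.map fun b => b * b).sum :=
      List.sum_nonneg (by simp only [List.mem_map]; rintro _ ⟨x, -, rfl⟩; exact mul_self_nonneg x)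
    simp only [List.sum_cons, List.map_cons, List.length_cons, Nat.cast_succ]
    rcases Nat.eq_zero_or_pos l.length with h | h
    · simp [List.length_eq_zero_iff.1 h]
    · have : (1 : ℤ) ≤ l.length := by exact_mod_cast h
      nlinarith [mul_self_nonneg ((l.length : ℤ) * b - l.sum)]

theorem mem_sols {vals : List ℤ} {n : ℕ} {S Q : ℤ} {l : List ℤ} :
    l ∈ sols vals n S Q ↔
      l.length = n ∧ (∀ b ∈ l, b ∈ vals) ∧ l.sum = S ∧ (l.map fun b => b * b).sum = Q := by
  induction n generalizing S Q l with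
  | zero =>
    cases l <;> simp [sols]; omega
  | succ n ih =>
    cases l with
    | nil =>
      simp [sols]
    | cons b l =>
      simp only [sols, List.mem_flatMap]
      constructor
      · rintro ⟨c, hc, h⟩
        split at h
        · simp only [List.mem_map, List.cons.injEq] at h
          obtain ⟨l', hl', rfl, rfl⟩ := h
          obtain ⟨h1, h2, h3, h4⟩ := ih.1 hl'
          refine ⟨by simp [h1], ?_, ?_, ?_⟩
          · simpa [hc] using h2
          · simp [h3]
          · simp [h4]
        · simp at h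
      · rintro ⟨h1, h2, h3, h4⟩
        have hnn : 0 ≤ (l.map fun b => b * b).sum :=
          List.sum_nonneg (by simp only [List.mem_map]; rintro _ ⟨x, -, rfl⟩; exact mul_self_nonneg x)
        simp only [List.map_cons, List.sum_cons] at h4 h3
        refine ⟨b, h2 b (by simp), ?_⟩
        have hcs := sum_sq_le l
        rw [if_pos ⟨by omega, by
          rw [show S - b = l.sum by omega, show Q - b * b = (l.map fun b => b * b).sum by omega,
            show (n : ℤ) = l.length by simp at h1; omega]
          exact hcs⟩]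
        simp only [List.mem_map, List.cons.injEq]
        exact ⟨l, ih.2 ⟨by simpa using h1, fun x hx => h2 x (by simp [hx]), by omega, by omega⟩,
          by simp⟩

theorem nodup_sols {vals : List ℤ} (hv : vals.Nodup) (n : ℕ) (S Q : ℤ) :
    (sols vals n S Q).Nodup := by
  induction n generalizing S Q with
  | zero => simp only [sols]; split <;> simp
  | succ n ih =>
    simp only [sols, List.nodup_flatMap]
    refine ⟨fun b _ => ?_, ?_⟩
    · split
      · exact (ih _ _).map (List.cons_injective)
      · simp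
    · refine hv.imp ?_
      intro b c hbc l h1 h2
      simp only [List.mem_ite_nil_right, List.mem_map] at h1 h2
      obtain ⟨_, x, _, rfl⟩ := h1
      obtain ⟨_, y, _, he⟩ := h2
      exact hbc (List.cons.inj he).1.symm

/-- Candidate classes with `v · v = c₁`, `K · v = c₂`. -/
def classes (as vals : List ℤ) (δ : ℕ) (c₁ c₂ : ℤ) : List (List ℤ) :=
  as.flatMap fun a => (sols vals δ (3 * a + c₂) (a * a - c₁)).map (a :: ·)

theorem nodup_classes {as vals : List ℤ} (ha : as.Nodup) (hv : vals.Nodup) (δ : ℕ) (c₁ c₂ : ℤ) :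
    (classes as vals δ c₁ c₂).Nodup := by
  simp only [classes, List.nodup_flatMap]
  refine ⟨fun b _ => (nodup_sols hv _ _ _).map List.cons_injective, ha.imp ?_⟩
  intro b c hbc l h1 h2
  simp only [List.mem_map] at h1 h2
  obtain ⟨x, _, rfl⟩ := h1
  obtain ⟨y, _, he⟩ := h2
  exact hbc (List.cons.inj he).1.symm

theorem toL_cons (v : DP δ) : toL v = v 0 :: List.ofFn (fun i : Fin δ => v i.succ) := by
  simp [toL, List.ofFn_succ]

theorem form_canon (v : DP δ) : form (canon δ) v = -3 * v 0 + ∑ i : Fin δ, v i.succ := by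
  simp [form, canon, Finset.sum_neg_distrib]

theorem toL_mem_classes {as vals : List ℤ} (v : DP δ) (c₁ c₂ : ℤ)
    (h₁ : form v v = c₁) (h₂ : form (canon δ) v = c₂)
    (ha : v 0 ∈ as) (hv : ∀ i : Fin δ, v i.succ ∈ vals) : toL v ∈ classes as vals δ c₁ c₂ := by
  simp only [classes, List.mem_flatMap, List.mem_map]
  refine ⟨v 0, ha, List.ofFn (fun i : Fin δ => v i.succ), mem_sols.2 ⟨by simp, ?_, ?_, ?_⟩,
    (toL_cons v).symm⟩
  · simpa [List.forall_mem_ofFn_iff] using hv
  · rw [List.sum_ofFn]; rw [form_canon] at h₂; linarith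
  · rw [List.map_ofFn, List.sum_ofFn, ← h₁]; simp [form, Function.comp]

theorem exists_of_mem_classes {as vals : List ℤ} {c₁ c₂ : ℤ} {l : List ℤ}
    (h : l ∈ classes as vals δ c₁ c₂) :
    ∃ v : DP δ, form v v = c₁ ∧ form (canon δ) v = c₂ ∧ toL v = l := by
  simp only [classes, List.mem_flatMap, List.mem_map] at h
  obtain ⟨a, -, m, hm, rfl⟩ := h
  obtain ⟨hlen, -, hs, hq⟩ := mem_sols.1 hm
  subst hlen
  refine ⟨Fin.cases a (fun i => m.get i), ?_, ?_, ?_⟩
  · simp only [form, Fin.cases_zero, Fin.cases_succ]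
    have e : ∑ i : Fin m.length, m.get i * m.get i = (m.map fun b => b * b).sum := by
      rw [← List.sum_ofFn]
      congr 1
      conv_rhs => rw [← List.ofFn_get m, List.map_ofFn]
      rfl
    rw [e, hq]; ring
  · rw [form_canon]
    simp only [Fin.cases_zero, Fin.cases_succ]
    have e : ∑ i : Fin m.length, m.get i = m.sum := by rw [← List.sum_ofFn, List.ofFn_get]
    rw [e, hs]; ring
  · rw [toL_cons]
    simp only [Fin.cases_zero, Fin.cases_succ]
    rw [List.ofFn_get]

/-! ### The box containing all conic and exceptional classes -/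

theorem box {v : DP δ} (hδ : δ ≤ 8) {c₁ c₂ : ℤ} (h₁ : form v v = c₁) (h₂ : form (canon δ) v = c₂) :
    (3 * v 0 + c₂) ^ 2 ≤ 8 * (v 0 ^ 2 - c₁) ∧
      ∀ i : Fin δ, (3 * v 0 + c₂ - v i.succ) ^ 2 ≤ 7 * (v 0 ^ 2 - c₁ - v i.succ ^ 2) := by
  rw [form_canon] at h₂
  have hS : ∑ i : Fin δ, v i.succ = 3 * v 0 + c₂ := by linarith
  have hQ : ∑ i : Fin δ, v i.succ ^ 2 = v 0 ^ 2 - c₁ := by
    simp only [form] at h₁; simp only [sq]; linarith
  refine ⟨?_, fun i => ?_⟩
  · rw [← hS, ← hQ]
    refine sq_sum_le_card_mul_sum_sq.trans ?_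
    gcongr
    simpa using hδ
  · have e1 : ∑ j ∈ Finset.univ.erase i, v j.succ = 3 * v 0 + c₂ - v i.succ := by
      rw [← hS, ← Finset.add_sum_erase _ _ (Finset.mem_univ i)]; ring
    have e2 : ∑ j ∈ Finset.univ.erase i, v j.succ ^ 2 = v 0 ^ 2 - c₁ - v i.succ ^ 2 := by
      rw [← hQ, ← Finset.add_sum_erase _ _ (Finset.mem_univ i)]; ring
    rw [← e1, ← e2]
    refine sq_sum_le_card_mul_sum_sq.trans ?_
    gcongr
    have : δ - 1 ≤ 7 := by omega
    simpa using this

/-- The list of all conic classes. -/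
def conicList (δ : ℕ) : List (List ℤ) :=
  classes [1, 2, 3, 4, 5, 6, 7, 8, 9, 10, 11] [0, 1, 2, 3, 4] δ 0 (-2)

/-- A list containing all exceptional classes. -/
def excList (δ : ℕ) : List (List ℤ) :=
  classes [-1, 0, 1, 2, 3, 4, 5, 6, 7] [-1, 0, 1, 2, 3] δ (-1) (-1)

theorem conic_mem {v : DP δ} (hδ : δ ≤ 8) (hv : IsConic v) : toL v ∈ conicList δ := by
  obtain ⟨b₁, b₂⟩ := box hδ hv.1 hv.2
  have l1 : 1 ≤ v 0 := by nlinarith
  have l2 : v 0 ≤ 11 := by nlinarith
  refine toL_mem_classes v 0 (-2) hv.1 hv.2 ?_ fun i => ?_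
  · simp only [List.mem_cons, List.not_mem_nil, or_false]; omega
  · have h := b₂ i
    have : 0 ≤ v i.succ ∧ v i.succ ≤ 4 := by
      generalize v i.succ = b at h
      interval_cases v 0 <;> constructor <;> nlinarith
    simp only [List.mem_cons, List.not_mem_nil, or_false]; omega

theorem exc_mem {v : DP δ} (hδ : δ ≤ 8) (hv : IsExc v) : toL v ∈ excList δ := by
  obtain ⟨b₁, b₂⟩ := box hδ hv.1 hv.2
  have l1 : -1 ≤ v 0 := by nlinarith
  have l2 : v 0 ≤ 7 := by nlinarith
  refine toL_mem_classes v (-1) (-1) hv.1 hv.2 ?_ fun i => ?_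
  · simp only [List.mem_cons, List.not_mem_nil, or_false]; omega
  · have h := b₂ i
    have : -1 ≤ v i.succ ∧ v i.succ ≤ 3 := by
      generalize v i.succ = b at h
      interval_cases v 0 <;> constructor <;> nlinarith
    simp only [List.mem_cons, List.not_mem_nil, or_false]; omega

/-! ### Simple roots -/

/-- The vector `(a; b 0, …, b (δ-1))`. -/
def vec (δ : ℕ) (a : ℤ) (b : ℕ → ℤ) : DP δ := Fin.cases a fun i => b i

/-- The root `e_i - e_{i+1}`. -/
def sw (δ : ℕ) (i : ℕ) : DP δ :=
  vec δ 0 fun k => if k = i then -1 else if k = i + 1 then 1 else 0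

/-- The root `ℓ - e_1 - e_2 - e_3`. -/
def cr (δ : ℕ) : DP δ := vec δ 1 fun k => if k < 3 then 1 else 0

/-- A linear function positive on all the simple roots. -/
def rho (δ : ℕ) : DP δ := vec δ 20 fun k => -((k : ℤ) + 1)

/-- `ℓ - e_1`. -/
def q0 (δ : ℕ) : DP δ := vec δ 1 fun k => if k = 0 then 1 else 0

/-- Conditions on a list of roots for `exists_dominant`. -/
def RootsOK (fix R : List (DP δ)) : Prop :=
  ∀ α ∈ R, form α α = -2 ∧ form (canon δ) α = 0 ∧ (∀ u ∈ fix, form u α = 0) ∧ 0 < form α (rho δ)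

/-- The classes of the list which are dominant for the given roots. -/
def dominants (cl : List (List ℤ)) (R : List (DP δ)) : List (List ℤ) :=
  cl.filter fun l => R.all fun α => decide (0 ≤ dotL l (toL α))

theorem mem_dominants {cl : List (List ℤ)} {R : List (DP δ)} {v : DP δ} (hv : toL v ∈ cl)
    (hd : ∀ α ∈ R, 0 ≤ form v α) : toL v ∈ dominants cl R := by
  simp only [dominants, List.mem_filter, List.all_eq_true, decide_eq_true_eq]
  exact ⟨hv, fun α hα => form_eq_dotL v α ▸ hd α hα⟩

end Groth.Agent.H90.DPLattice
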