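import Groth.Agent.H90.DPLattice

/-!
Weyl-orbit normal forms for conic and exceptional classes.
-/

set_option autoImplicit false

namespace Groth.Agent.H90.DPOrbits

open W4c3severiratdp Groth.Agent.H90.DPLattice

/-- All simple roots. -/
def full (δ : ℕ) : List (DP δ) :=
  (List.range (δ - 1)).map (sw δ) ++ (if 3 ≤ δ then [cr δ] else [])

/-- The simple roots orthogonal to `ℓ - e_1`. -/
def stab (δ : ℕ) : List (DP δ) :=
  (List.range' 1 (δ - 2)).map (sw δ) ++ (if 3 ≤ δ then [cr δ] else [])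

/-- Normal form of a conic class under `W_δ`. -/
theorem exists_weyl_conic {δ : ℕ} (h2 : 2 ≤ δ) (h8 : δ ≤ 8) {v : DP δ} (hv : IsConic v) :
    ∃ g : DP δ ≃ₗ[ℤ] DP δ, IsWeyl g ∧ g v = q0 δ := by
  have key : RootsOK [] (full δ) ∧ (∀ l ∈ conicList δ, -100 ≤ dotL l (toL (rho δ))) ∧
      ∀ l ∈ dominants (conicList δ) (full δ), l = toL (q0 δ) := by
    simp only [RootsOK]
    interval_cases δ <;> decide +kernel
  obtain ⟨hR, hB, hT⟩ := key
  obtain ⟨g, hg, -, hd⟩ := exists_dominant [] (full δ) (rho δ) 0 (-2) (-100) hR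
    (fun w h h' => form_eq_dotL w (rho δ) ▸ hB _ (conic_mem h8 ⟨h, h'⟩)) v hv.1 hv.2
  exact ⟨g, hg, toL_injective (hT _ (mem_dominants (conic_mem h8 (isConic_map hg hv)) hd))⟩

/-- Normal form of a conic class under the stabilizer of `ℓ - e_1`. -/
theorem exists_stab_conic {δ : ℕ} (h2 : 2 ≤ δ) (h8 : δ ≤ 8) {v : DP δ} (hv : IsConic v) :
    ∃ g : DP δ ≃ₗ[ℤ] DP δ, IsWeyl g ∧ g (q0 δ) = q0 δ ∧
      toL (g v) ∈ dominants (conicList δ) (stab δ) := by
  have key : RootsOK [q0 δ] (stab δ) ∧ ∀ l ∈ conicList δ, -100 ≤ dotL l (toL (rho δ)) := by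
    simp only [RootsOK]
    interval_cases δ <;> decide +kernel
  obtain ⟨hR, hB⟩ := key
  obtain ⟨g, hg, hf, hd⟩ := exists_dominant [q0 δ] (stab δ) (rho δ) 0 (-2) (-100) hR
    (fun w h h' => form_eq_dotL w (rho δ) ▸ hB _ (conic_mem h8 ⟨h, h'⟩)) v hv.1 hv.2
  exact ⟨g, hg, hf _ (List.mem_singleton.2 rfl),
    mem_dominants (conic_mem h8 (isConic_map hg hv)) hd⟩

/-- Any ordered pair of conic classes is moved to `(ℓ - e_1, dominant)`. -/
theorem exists_pair_normal {δ : ℕ} (h2 : 2 ≤ δ) (h8 : δ ≤ 8) {v₁ v₂ : DP δ} (h₁ : IsConic v₁)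
    (h₂ : IsConic v₂) :
    ∃ g : DP δ ≃ₗ[ℤ] DP δ, IsWeyl g ∧ g v₁ = q0 δ ∧
      toL (g v₂) ∈ dominants (conicList δ) (stab δ) := by
  obtain ⟨g, hg, e₁⟩ := exists_weyl_conic h2 h8 h₁
  obtain ⟨g', hg', e', hm⟩ := exists_stab_conic h2 h8 (isConic_map hg h₂)
  exact ⟨g.trans g', isWeyl_trans hg hg', by simp [e₁, e'], by simpa using hm⟩

/-- `e_{i+1}` (as a divisor class) on the blow-up in eight points. -/
def ex (i : ℕ) : DP 8 := vec 8 0 fun k => if k = i then -1 else 0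

theorem excList_bound : ∀ l ∈ excList 8, -100 ≤ dotL l (toL (rho 8)) := by decide +kernel

/-- Normal form of an exceptional class for a list of roots. -/
theorem exists_dominant_exc (fix R : List (DP 8)) (hR : RootsOK fix R) {v : DP 8} (hv : IsExc v) :
    ∃ g : DP 8 ≃ₗ[ℤ] DP 8, IsWeyl g ∧ Fixes fix g ∧ toL (g v) ∈ dominants (excList 8) R := by
  obtain ⟨g, hg, hf, hd⟩ := exists_dominant fix R (rho 8) (-1) (-1) (-100) hR
    (fun w h h' => form_eq_dotL w (rho 8) ▸ excList_bound _ (exc_mem le_rfl ⟨h, h'⟩)) v hv.1 hv.2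
  exact ⟨g, hg, hf, mem_dominants (exc_mem le_rfl (isExc_map hg hv)) hd⟩

/-- The simple roots `e_i - e_{i+1}`, `i < n`, and `ℓ - e_1 - e_2 - e_3`. -/
def eroots (n : ℕ) : List (DP 8) := (List.range n).map (sw 8) ++ [cr 8]

theorem exists_weyl_exc {v : DP 8} (hv : IsExc v) :
    ∃ g : DP 8 ≃ₗ[ℤ] DP 8, IsWeyl g ∧ g v = ex 7 := by
  obtain ⟨g, hg, -, hm⟩ := exists_dominant_exc [] (eroots 7) (by simp only [RootsOK]; decide +kernel) hv
  refine ⟨g, hg, toL_injective ?_⟩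
  revert hm; generalize toL (g v) = l; revert l; decide +kernel

/-- Normal forms of exceptional classes under the stabilizer of `e_8`. -/
def T7 : List (List ℤ) :=
  [[0, 0, 0, 0, 0, 0, 0, -1, 0], [0, 0, 0, 0, 0, 0, 0, 0, -1], [1, 1, 0, 0, 0, 0, 0, 0, 1],
    [3, 1, 1, 1, 1, 1, 1, 0, 2], [6, 2, 2, 2, 2, 2, 2, 2, 3]]

theorem exists_stab_exc {v : DP 8} (hv : IsExc v) :
    ∃ g : DP 8 ≃ₗ[ℤ] DP 8, IsWeyl g ∧ g (ex 7) = ex 7 ∧ toL (g v) ∈ T7 := by
  obtain ⟨g, hg, hf, hm⟩ :=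
    exists_dominant_exc [ex 7] (eroots 6) (by simp only [RootsOK]; decide +kernel) hv
  refine ⟨g, hg, hf _ (List.mem_singleton.2 rfl), ?_⟩
  revert hm; generalize toL (g v) = l; revert l; decide +kernel

/-- If `v, w` are exceptional with the same intersection with `e_8`, their normal forms agree. -/
theorem T7_inj : ∀ l ∈ T7, ∀ l' ∈ T7, dotL l (toL (ex 7)) = dotL l' (toL (ex 7)) → l = l' := by
  decide +kernel

theorem exists_stab_exc_two {v : DP 8} (hv : IsExc v) :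
    ∃ g : DP 8 ≃ₗ[ℤ] DP 8, IsWeyl g ∧ g (ex 7) = ex 7 ∧ g (ex 6) = ex 6 ∧
      toL (g v) ∈ dominants (excList 8) (eroots 5) := by
  obtain ⟨g, hg, hf, hm⟩ :=
    exists_dominant_exc [ex 7, ex 6] (eroots 5) (by simp only [RootsOK]; decide +kernel) hv
  exact ⟨g, hg, hf _ (by simp), hf _ (by simp), hm⟩

theorem form_weyl_eq {δ : ℕ} {g : DP δ ≃ₗ[ℤ] DP δ} (hg : IsWeyl g) {u : DP δ} (hu : g u = u)
    (v : DP δ) : form (g v) u = form v u := by
  conv_lhs => rw [← hu]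
  exact hg.1 _ _

/-- Two exceptional classes with the same intersection with `e_8` are conjugate under its
stabilizer. -/
theorem exists_stab_exc_map {v w : DP 8} (hv : IsExc v) (hw : IsExc w)
    (h : form v (ex 7) = form w (ex 7)) :
    ∃ g : DP 8 ≃ₗ[ℤ] DP 8, IsWeyl g ∧ g (ex 7) = ex 7 ∧ g v = w := by
  obtain ⟨g, hg, he, hm⟩ := exists_stab_exc hv
  obtain ⟨g', hg', he', hm'⟩ := exists_stab_exc hw
  refine ⟨g.trans g'.symm, isWeyl_trans hg (isWeyl_symm hg'), ?_, ?_⟩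
  · rw [LinearEquiv.trans_apply, he, LinearEquiv.symm_apply_eq, he']
  · rw [LinearEquiv.trans_apply, LinearEquiv.symm_apply_eq]
    refine toL_injective (T7_inj _ hm _ hm' ?_)
    rw [← form_eq_dotL, ← form_eq_dotL, form_weyl_eq hg he, form_weyl_eq hg' he', h]

end Groth.Agent.H90.DPOrbits
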